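import Groth.Agent.Lib.RLpsi8.FTSub
import Groth.Agent.Lib.SerreSub19.Equiv
import Groth.Agent.Lib.StrictRes20.Basic
import Groth.Agent.Lib.OX.CohClass
import Groth.Agent.Lib.OX.AffineHomotopy
import Groth.Agent.Lib.QCohCat20.Category
import Groth.Agent.Lib.Cohom.Serre

/-! # `D⁻(Coh)` and `D⁻_coh(QCoh)` -/

set_option autoImplicit false
set_option backward.isDefEq.respectTransparency false
set_option linter.style.haveILetI false
set_option maxHeartbeats 1000000
universe u

open CategoryTheory CategoryTheory.Limits AlgebraicGeometry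
attribute [local instance] HasDerivedCategory.standard

noncomputable section

namespace GrothLib.CohDer20

variable (X : Scheme.{u}) [IsNoetherian X]
  [ObjectProperty.ContainsZero (fun M : X.Modules => Coh.IsQCoh M)]
  [ObjectProperty.IsClosedUnderKernels (fun M : X.Modules => Coh.IsQCoh M)]
  [ObjectProperty.IsClosedUnderCokernels (fun M : X.Modules => Coh.IsQCoh M)]
  [ObjectProperty.IsClosedUnderFiniteProducts (fun M : X.Modules => Coh.IsQCoh M)]

/-- Quasi-coherent modules. -/
abbrev Q' : Type (u + 1) := ObjectProperty.FullSubcategory (fun M : X.Modules => Coh.IsQCoh M)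

/-- Coherent modules, among quasi-coherent ones. -/
def cohQ : ObjectProperty (Q' X) := fun M => Coh.IsCoh M.obj

/-- The inclusion into all modules. -/
abbrev qI : Q' X ⥤ X.Modules := ObjectProperty.ι (fun M : X.Modules => Coh.IsQCoh M)

theorem exactι : PreservesFiniteLimits (qI X) ∧ PreservesFiniteColimits (qI X) :=
  ⟨QCohCat20.preservesFiniteLimits_ι (X := X),
    haveI : ∀ {A B : QCohCat.QCoh X} (f : A ⟶ B), PreservesColimit (parallelPair f 0) (QCohCat.isQCoh X).ι :=
      fun {A B} f => (QCohCat.isQCoh X).preservesCokernels_ι f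
    Functor.preservesFiniteColimits_of_preservesCokernels (QCohCat.isQCoh X).ι⟩

instance isSerreClass_cohQ : (cohQ X).IsSerreClass where
  exists_zero := by
    obtain ⟨Z, hZ⟩ : ∃ Z : Q' X, IsZero Z := HasZeroObject.zero
    exact ⟨Z, hZ, OX.isCoh_of_isZero ((qI X).map_isZero hZ)⟩
  prop_of_mono {A B} f _ hB := by
    haveI := (exactι X).1
    let g : A.obj ⟶ B.obj := (qI X).map f
    haveI : Mono g := inferInstanceAs (Mono ((qI X).map f))
    haveI : A.obj.IsQuasicoherent := A.property
    haveI : B.obj.IsQuasicoherent := B.property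
    refine ⟨A.property, (QCoh.isFiniteType_iff_moduleFinite _).2 fun U hU => ?_⟩
    haveI := QCoh.moduleFinite_of_isFiniteType B.obj hB.2 hU
    haveI : IsNoetherianRing Γ(X, U) := IsLocallyNoetherian.component_noetherian ⟨U, hU⟩
    haveI : _root_.IsNoetherian Γ(X, U) Γ(B.obj, U) := isNoetherian_of_isNoetherianRing_of_finite _ _
    exact Module.Finite.of_injective (QCoh.appLinear g U) (Cohom.app_injective_of_mono g U)
  prop_of_epi {A B} f _ hA := by
    haveI := (exactι X).2
    haveI := (exactι X).1
    let g : A.obj ⟶ B.obj := (qI X).map f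
    haveI : Epi g := inferInstanceAs (Epi ((qI X).map f))
    let S := ShortComplex.mk (kernel.ι g) g (kernel.condition _)
    have hS : S.ShortExact :=
      { exact := ShortComplex.exact_of_f_is_kernel _ (kernelIsKernel _)
        mono_f := inferInstanceAs (Mono (kernel.ι ((qI X).map f)))
        epi_g := inferInstanceAs (Epi g) }
    haveI : A.obj.IsQuasicoherent := A.property
    haveI : B.obj.IsQuasicoherent := B.property
    haveI : S.X₁.IsQuasicoherent := QCoh.isQuasicoherent_kernel g
    refine ⟨B.property, (QCoh.isFiniteType_iff_moduleFinite _).2 fun U hU => ?_⟩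
    haveI := QCoh.moduleFinite_of_isFiniteType A.obj hA.2 hU
    exact Module.Finite.of_surjective (QCoh.appLinear g U)
      (QCoh.app_surjective_of_isAffineOpen hS hU)
  prop_X₂_of_shortExact {S} hS h₁ h₃ := by
    haveI := (exactι X).1
    haveI := (exactι X).2
    exact OX.isCoh_extension (hS.map_of_exact (qI X)) h₁ h₃

variable [ObjectProperty.ContainsZero (fun M : X.Modules => Coh.IsCoh M)]
  [ObjectProperty.IsClosedUnderKernels (fun M : X.Modules => Coh.IsCoh M)]
  [ObjectProperty.IsClosedUnderCokernels (fun M : X.Modules => Coh.IsCoh M)]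
  [ObjectProperty.IsClosedUnderFiniteProducts (fun M : X.Modules => Coh.IsCoh M)]

instance closedUnderFiniteProducts_cohQ : (cohQ X).IsClosedUnderFiniteProducts where
  isClosedUnderLimitsOfShape J _ := ⟨by
    rintro Z ⟨p⟩
    haveI := (exactι X).1
    exact ObjectProperty.prop_of_isLimit (fun M : X.Modules => Coh.IsCoh M)
      (isLimitOfPreserves (qI X) p.isLimit) fun j => p.prop_diag_obj j⟩

/-- The inclusion of coherent modules in quasi-coherent ones. -/
abbrev cI : ObjectProperty.FullSubcategory (fun M : X.Modules => Coh.IsCoh M) ⥤ Q' X :=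
  ObjectProperty.lift (fun M : X.Modules => Coh.IsQCoh M)
    (ObjectProperty.ι (fun M : X.Modules => Coh.IsCoh M)) (fun M => M.property.1)

/-- Coherent modules are the objects of `cohQ`. -/
def eqv : ObjectProperty.FullSubcategory (fun M : X.Modules => Coh.IsCoh M) ≌ (cohQ X).FullSubcategory :=
  CategoryTheory.Equivalence.mk (ObjectProperty.lift (cohQ X) (cI X) (fun M => M.property))
    (ObjectProperty.lift (fun M : X.Modules => Coh.IsCoh M) ((cohQ X).ι ⋙ qI X) (fun M => M.property))
    (NatIso.ofComponents (fun _ => Iso.refl _) (fun f => by ext : 1; simp))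
    (NatIso.ofComponents (fun _ => Iso.refl _) (fun f => by ext : 2; simp))

/-- Epimorphisms onto coherent modules restrict to coherent submodules. -/
theorem hlift (A B : Q' X) (π : A ⟶ B) (hπ : Epi π) (hB : cohQ X B) :
    ∃ (A' : Q' X) (i : A' ⟶ A), Mono i ∧ cohQ X A' ∧ Epi (i ≫ π) := by
  haveI := (exactι X).1
  haveI := (exactι X).2
  let g : A.obj ⟶ B.obj := (qI X).map π
  haveI : Epi g := inferInstanceAs (Epi ((qI X).map π))
  haveI : A.obj.IsQuasicoherent := A.property
  haveI : B.obj.IsQuasicoherent := B.property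
  haveI : CompactSpace X := inferInstance
  obtain ⟨Q, hQ, hQp⟩ := StrictRes20.exists_ft_cover hB.2 g
  let A' : Q' X := ⟨Q.obj, hQ.isQuasicoherent⟩
  let i : A' ⟶ A := ObjectProperty.homMk Q.ι
  haveI : Mono ((qI X).map i) := RLpsi8.mono_ι Q
  refine ⟨A', i, (qI X).mono_of_mono_map ‹_›, ⟨hQ.isQuasicoherent, hQ.isFiniteType⟩, ?_⟩
  haveI : Epi ((qI X).map (i ≫ π)) := hQp
  exact (qI X).epi_of_epi_map ‹_›

variable [PreservesFiniteLimits (cI X)] [PreservesFiniteColimits (cI X)]

theorem main :
    (∀ (M N : DerivedCategory (ObjectProperty.FullSubcategory (fun M : X.Modules => Coh.IsCoh M))) (b : ℤ),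
      M.IsLE b → N.IsLE b → Function.Bijective (fun φ : M ⟶ N => (cI X).mapDerivedCategory.map φ)) ∧
    ∀ (K : DerivedCategory (Q' X)) (b : ℤ), K.IsLE b →
      (∀ i : ℤ, Coh.IsCoh ((DerivedCategory.homologyFunctor (Q' X) i).obj K).obj) →
      ∃ M : DerivedCategory (ObjectProperty.FullSubcategory (fun M : X.Modules => Coh.IsCoh M)), M.IsLE b ∧
        Nonempty ((cI X).mapDerivedCategory.obj M ≅ K) := by
  let P := cohQ X
  haveI : PreservesFiniteLimits P.ι :=
    haveI : ∀ {A B : P.FullSubcategory} (f : A ⟶ B), PreservesLimit (parallelPair f 0) P.ι :=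
      fun {A B} f => P.preservesKernels_ι f
    Functor.preservesFiniteLimits_of_preservesKernels _
  haveI : PreservesFiniteColimits P.ι :=
    haveI : ∀ {A B : P.FullSubcategory} (f : A ⟶ B), PreservesColimit (parallelPair f 0) P.ι :=
      fun {A B} f => P.preservesCokernels_ι f
    Functor.preservesFiniteColimits_of_preservesCokernels _
  haveI : HasFiniteProducts (Q' X) := inferInstance
  let e := eqv X
  haveI : e.functor.Additive := Functor.additive_of_preserves_binary_products _
  haveI : e.inverse.Additive := Functor.additive_of_preserves_binary_products _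
  haveI := AffineHom22.isEquivalence_mapDerived e
  let E := e.functor.mapDerivedCategory
  let c : E ⋙ P.ι.mapDerivedCategory ≅ (cI X).mapDerivedCategory :=
    DerCat.mapDerivedCompIso e.functor P.ι (cI X) (Iso.refl _)
  have hLE : ∀ (M : DerivedCategory _) (b : ℤ), M.IsLE b ↔ (E.obj M).IsLE b := fun M b => by
    simp only [DerivedCategory.isLE_iff]
    refine forall₂_congr fun i _ => ?_
    let h := (DerTrunc.homologyMapIso e.functor i).app M
    exact ⟨fun hz => (e.functor.map_isZero hz).of_iso h,
      fun hz => ((e.inverse.map_isZero (hz.of_iso h.symm))).of_iso (e.unitIso.app _)⟩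
  refine ⟨fun M N b hM _ => ?_, fun K b _ hK => ?_⟩
  · haveI := (hLE M b).1 hM
    have hb : Function.Bijective fun φ : M ⟶ N => (E ⋙ P.ι.mapDerivedCategory).map φ :=
      (SerreSub19.bijective_map P (hlift X) (E.obj M) (E.obj N) b).comp
        ⟨E.map_injective, E.map_surjective⟩
    have he : (fun φ : M ⟶ N => (cI X).mapDerivedCategory.map φ) =
        (fun ψ => (c.app M).inv ≫ ψ ≫ (c.app N).hom) ∘ fun φ => (E ⋙ P.ι.mapDerivedCategory).map φ := by
      funext φ
      exact ((Iso.inv_comp_eq _).2 (c.hom.naturality φ)).symm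
    rw [he]
    exact ((Iso.homCongr (c.app M) (c.app N)).bijective).comp hb
  · obtain ⟨M', hM', ⟨i⟩⟩ := SerreSub19.exists_preimage P (hlift X) K b hK
    let M := E.objPreimage M'
    let j : E.obj M ≅ M' := E.objObjPreimageIso M'
    exact ⟨M, (hLE M b).2 (DerivedCategory.TStructure.t.isLE_of_iso j.symm b),
      ⟨(c.app M).symm ≪≫ P.ι.mapDerivedCategory.mapIso j ≪≫ i⟩⟩

end GrothLib.CohDer20
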